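import Groth.Agent.RelDvr.Galois
import Groth.Agent.AbhAbs.Scheme
import Groth.Agent.GalPtLib.FieldFEt

/-!
# A tame cover of the fraction field extends over a root of the uniformizer
-/

set_option autoImplicit false
attribute [-instance] CategoryTheory.catToReflQuiver
set_option linter.style.haveILetI false
set_option backward.isDefEq.respectTransparency false
set_option backward.isDefEq.respectTransparency.types false

universe u

open CategoryTheory CategoryTheory.Limits AlgebraicGeometry IsLocalRing TensorProduct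

noncomputable section

namespace Groth.Agent.RelDvr

open Groth.Agent

theorem isPushout_integralClosure (O K₁ E : Type u) [CommRing O] [IsDomain O] [Field K₁] [Algebra O K₁]
    [IsFractionRing O K₁] [CommRing E] [Algebra K₁ E] [Algebra O E] [IsScalarTower O K₁ E] [Module.Finite K₁ E] :
    Algebra.IsPushout O K₁ (integralClosure O E) E := by
  let C := integralClosure O E
  haveI : IsLocalization (Algebra.algebraMapSubmonoid C (nonZeroDivisors O)) E := by
    refine (isLocalization_iff _ _).2 ⟨?_, fun x => ?_, fun {a b} h => ⟨1, by rw [Subtype.ext h]⟩⟩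
    · rintro ⟨_, r, hr, rfl⟩
      show IsUnit (algebraMap C E (algebraMap O C r))
      rw [← IsScalarTower.algebraMap_apply O C E, IsScalarTower.algebraMap_apply O K₁ E]
      exact (IsLocalization.map_units K₁ (⟨r, hr⟩ : nonZeroDivisors O)).map _
    · obtain ⟨⟨r, hr⟩, hrx⟩ := IsIntegral.exists_multiple_integral_of_isLocalization (nonZeroDivisors O)
        (Rₘ := K₁) x (Algebra.IsIntegral.isIntegral x)
      refine ⟨(⟨r • x, hrx⟩, ⟨algebraMap O C r, r, hr, rfl⟩), ?_⟩
      show x * algebraMap O E r = r • x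
      rw [Algebra.smul_def, mul_comm]
  exact (Algebra.isPushout_of_isLocalization (nonZeroDivisors O) K₁ C E).symm

/-- A cover of the fraction field, tame with indices dividing `N`, extends over any discrete valuation ring
containing an `N`-th root of the uniformizer. -/
theorem exists_extension {A K O K₁ : Type u} [CommRing A] [IsDomain A] [IsDiscreteValuationRing A] [Field K]
    [Algebra A K] [IsFractionRing A K] [CommRing O] [IsDomain O] [IsDiscreteValuationRing O] [Field K₁]
    [Algebra O K₁] [IsFractionRing O K₁] [Algebra A O] [IsLocalHom (algebraMap A O)] [Algebra A K₁]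
    [IsScalarTower A O K₁] [Algebra K K₁] [IsScalarTower A K K₁] [FiniteDimensional K K₁]
    [Algebra.IsSeparable K K₁] (V : FEt.Cat (Spec (CommRingCat.of K))) (N : ℕ) (hN : 0 < N)
    (π : A) (hπ : maximalIdeal A = Ideal.span {π}) (z : O) (hz : z ^ N = algebraMap A O π)
    (hV : ∀ (L : Type u) [Field L] [Algebra K L] [FiniteDimensional K L] [Algebra.IsSeparable K L]
      (φ : Γ(V.left, ⊤) ⟶ CommRingCat.of L), GalPtLib.struct V ≫ φ = CommRingCat.ofHom (algebraMap K L) →
      Function.Surjective φ.hom → TameDvd A ((algebraMap K L).comp (algebraMap A K)) N) :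
    ∃ Ex : FEt.Cat (Spec (CommRingCat.of O)),
      Nonempty ((FEt.restrict (Spec.map (CommRingCat.ofHom (algebraMap O K₁)))).obj Ex ≅
        (FEt.restrict (Spec.map (CommRingCat.ofHom (algebraMap K K₁)))).obj V) := by
  let B := Γ(V.left, ⊤)
  letI : Algebra K B := (GalPtLib.struct V).hom.toAlgebra
  obtain ⟨hfin, het⟩ := GalPtLib.struct_finite_etale V
  haveI : Module.Finite K B := hfin
  haveI : Algebra.Etale K B := het
  obtain ⟨hCet, hCfin⟩ := etale_integralClosure (A := A) (O := O) (K₁ := K₁) B N hN π hπ z hz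
    fun L _ _ _ _ φ hφ => hV L (CommRingCat.ofHom φ.toRingHom)
      (CommRingCat.hom_ext (RingHom.ext fun a => φ.commutes a)) hφ
  haveI := hCet
  haveI := hCfin
  haveI : Module.Finite K₁ (K₁ ⊗[K] B) := inferInstance
  let C := integralClosure O (K₁ ⊗[K] B)
  haveI := isPushout_integralClosure O K₁ (K₁ ⊗[K] B)
  let σ : K₁ ⊗[O] C ≃ₐ[K₁] K₁ ⊗[K] B := Algebra.IsPushout.equiv O K₁ C (K₁ ⊗[K] B)
  let Ex : FEt.Cat (Spec (CommRingCat.of O)) := MorphismProperty.Over.mk ⊤
    (Spec.map (CommRingCat.ofHom (algebraMap O C)))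
    (show IsFinite _ ∧ Etale _ from ⟨(IsFinite.SpecMap_iff _).2 (RingHom.finite_algebraMap.2 hCfin),
      (HasRingHomProperty.Spec_iff (P := @Etale)).2 (RingHom.etale_algebraMap.2 hCet)⟩)
  refine ⟨Ex, ?_⟩
  have hW := AbhAbs.isPullback_spec_iso O K₁ C (Iso.refl _) (Iso.refl _) (Iso.refl _) Ex.hom
    (Spec.map (CommRingCat.ofHom (algebraMap O K₁)))
    ((Category.comp_id _).trans (Category.id_comp Ex.hom).symm)
    ((Category.comp_id _).trans (Category.id_comp _).symm)
  have hV' := AbhAbs.isPullback_spec_iso K K₁ B V.left.isoSpec.symm (Iso.refl _) (Iso.refl _) V.hom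
    (Spec.map (CommRingCat.ofHom (algebraMap K K₁)))
    ((Category.comp_id _).trans (GalPtLib.struct_spec V))
    ((Category.comp_id _).trans (Category.id_comp _).symm)
  exact AbhAbs.nonempty_restrict_iso Ex V _ _ hW hV' (AbhAbs.specIso K₁ _ _ σ)
    (AbhAbs.specIso_w_comp K₁ _ _ σ _)

end Groth.Agent.RelDvr

end
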