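import Groth.Agent.RelPure.Extend
import Groth.Agent.RelDvr.Extend
import Groth.Agent.DvrExt.Basic
import Groth.Agent.GrpSchLib.SmoothRegular
import Groth.Agent.CDiv6.Normal

/-!
# Extension along a tame root cover over a field
-/

set_option autoImplicit false
attribute [-instance] CategoryTheory.catToReflQuiver
set_option linter.style.haveILetI false
set_option backward.isDefEq.respectTransparency false
set_option backward.isDefEq.respectTransparency.types false

universe u

open CategoryTheory CategoryTheory.Limits AlgebraicGeometry IsLocalRing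

noncomputable section

namespace Groth.Agent.RelDvr

open Groth.Agent Groth.Agent.RelPure Groth.Agent.Pi1Ext.Spread

/-- The spectrum of the fraction field of a local ring, mapped to the scheme. -/
def genMap (X : Scheme.{u}) (y : X) : Spec (CommRingCat.of (FractionRing (X.presheaf.stalk y))) ⟶ X :=
  Spec.map (CommRingCat.ofHom (algebraMap (X.presheaf.stalk y) (FractionRing (X.presheaf.stalk y)))) ≫ X.fromSpecStalk y

variable {X : Scheme.{u}} {k : Type u} [Field k]

theorem genMap_apply (y : X) [IsDomain (X.presheaf.stalk y)]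
    (z : Spec (CommRingCat.of (FractionRing (X.presheaf.stalk y)))) :
    genMap X y z = X.fromSpecStalk y (⟨⊥, Ideal.isPrime_bot⟩ : PrimeSpectrum (X.presheaf.stalk y)) := by
  show X.fromSpecStalk y _ = _
  congr 1
  refine PrimeSpectrum.ext ?_
  show (z : PrimeSpectrum (FractionRing (X.presheaf.stalk y))).asIdeal.comap _ = ⊥
  rw [(z : PrimeSpectrum (FractionRing (X.presheaf.stalk y))).isPrime.ne_top |> fun h =>
    (Ideal.eq_bot_or_top (z : PrimeSpectrum (FractionRing (X.presheaf.stalk y))).asIdeal).resolve_right h]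
  exact Ideal.comap_bot_of_injective _ (IsFractionRing.injective _ _)

theorem genMap_mem (f : X ⟶ Spec (CommRingCat.of k)) (U : X.Opens) (hU : ∀ η, IsFibMax f η → η ∈ U) (y : X)
    [IsDomain (X.presheaf.stalk y)] : Set.range (genMap X y) ⊆ (U : Set X) := by
  rintro _ ⟨z, rfl⟩
  rw [genMap_apply]
  refine hU _ fun w hw _ => ?_
  obtain ⟨q, rfl⟩ := (Scheme.range_fromSpecStalk (X := X) (x := y)).ge
    (hw.trans ((Scheme.range_fromSpecStalk (X := X) (x := y)).le ⟨_, rfl⟩))
  have h1 := (PrimeSpectrum.le_iff_specializes q _).2 ((X.fromSpecStalk y).isEmbedding.isInducing.specializes_iff.1 hw)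
  exact congrArg _ (PrimeSpectrum.ext (le_bot_iff.1 h1))

/-- The map of the generic point of a local ring to a fibrewise dense open. -/
def genPt (f : X ⟶ Spec (CommRingCat.of k)) (U : X.Opens) (hU : ∀ η, IsFibMax f η → η ∈ U) (y : X)
    [IsDomain (X.presheaf.stalk y)] : Spec (CommRingCat.of (FractionRing (X.presheaf.stalk y))) ⟶ (U : Scheme.{u}) :=
  IsOpenImmersion.lift U.ι (genMap X y) (by rw [Scheme.Opens.range_ι]; exact genMap_mem f U hU y)

theorem isDVR_of_not_mem (f : X ⟶ Spec (CommRingCat.of k)) [Smooth f] (U : X.Opens)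
    (hU : ∀ η, IsFibMax f η → η ∈ U) (x : X) (hx : x ∉ U) (hd : ringKrullDim (X.presheaf.stalk x) ≤ 1) :
    ∃ _ : IsDomain (X.presheaf.stalk x), IsDiscreteValuationRing (X.presheaf.stalk x) := by
  haveI := GrpSchLib.isRegularLocalRing_stalk_of_smooth f x
  haveI := RegLoc6.isDomain_of_isRegularLocalRing (X.presheaf.stalk x)
  haveI := RegLoc6.isIntegrallyClosed_of_isRegularLocalRing (X.presheaf.stalk x)
  refine ⟨inferInstance, CDiv6.isDVR_of_dim_eq_one _ (le_antisymm hd ?_)⟩
  by_contra hlt
  have h0 : ringKrullDim (X.presheaf.stalk x) ≤ 0 := by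
    revert hlt
    cases ringKrullDim (X.presheaf.stalk x) with
    | bot => exact fun _ => bot_le
    | coe a =>
      intro h2
      have h3 : a < 1 := lt_of_not_ge fun h => h2 (WithBot.coe_le_coe.2 h)
      exact WithBot.coe_le_coe.2 (Order.lt_one_iff.1 h3).le
  haveI : Ring.KrullDimLE 0 (X.presheaf.stalk x) := Ring.krullDimLE_iff.2 h0
  refine hx (hU x fun z hz _ => ?_)
  obtain ⟨q, rfl⟩ := (Scheme.range_fromSpecStalk (X := X) (x := x)).ge hz
  have h : (q : PrimeSpectrum (X.presheaf.stalk x)) = closedPoint _ :=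
    PrimeSpectrum.ext (IsLocalRing.eq_maximalIdeal (Ideal.IsPrime.isMaximal' (q : PrimeSpectrum (X.presheaf.stalk x)).isPrime))
  exact (congrArg (X.fromSpecStalk x) h).trans Scheme.fromSpecStalk_closedPoint

theorem lift_square {A O : CommRingCat.{u}} (g : A ⟶ O) [IsDomain A] [IsDomain O]
    (hg : Function.Injective ((algebraMap O (FractionRing O)).comp g.hom)) :
    g ≫ CommRingCat.ofHom (algebraMap O (FractionRing O)) =
      CommRingCat.ofHom (algebraMap A (FractionRing A)) ≫ CommRingCat.ofHom (IsFractionRing.lift hg) :=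
  by
  ext a
  simp only [CommRingCat.hom_comp, CommRingCat.hom_ofHom, RingHom.comp_apply]
  exact (IsFractionRing.lift_algebraMap hg a).symm

/-- Over a field, a cover extends to a root cover where it is tame along the divisor. -/
theorem exists_extend_field {X' : Scheme.{u}} [IsNoetherian X'] (f : X ⟶ Spec (CommRingCat.of k)) [Smooth f]
    (p : X' ⟶ X) [IsFinite p] [Flat p] [Smooth (p ≫ f)] (U : X.Opens) [Etale (p ∣_ U)]
    (hU : ∀ η, IsFibMax f η → η ∈ U) (V : FEt.Cat (U : Scheme.{u}))
    (hpt : ∀ (x' : X') [IsDomain (X.presheaf.stalk (p x'))] [IsDiscreteValuationRing (X.presheaf.stalk (p x'))],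
      p x' ∉ U → ∃ (π : X.presheaf.stalk (p x')) (N : ℕ) (z : X'.presheaf.stalk x'),
        maximalIdeal (X.presheaf.stalk (p x')) = Ideal.span {π} ∧ 0 < N ∧ z ^ N = p.stalkMap x' π ∧
        ∀ (L : Type u) [Field L] [Algebra (FractionRing (X.presheaf.stalk (p x'))) L]
          [FiniteDimensional (FractionRing (X.presheaf.stalk (p x'))) L]
          [Algebra.IsSeparable (FractionRing (X.presheaf.stalk (p x'))) L]
          (φ : Γ(((FEt.restrict (genPt f U hU (p x'))).obj V).left, ⊤) ⟶ CommRingCat.of L),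
          GalPtLib.struct ((FEt.restrict (genPt f U hU (p x'))).obj V) ≫ φ =
            CommRingCat.ofHom (algebraMap (FractionRing (X.presheaf.stalk (p x'))) L) →
          Function.Surjective φ.hom →
          TameDvd (X.presheaf.stalk (p x')) ((algebraMap (FractionRing (X.presheaf.stalk (p x'))) L).comp
            (algebraMap (X.presheaf.stalk (p x')) (FractionRing (X.presheaf.stalk (p x'))))) N) :
    ∃ Y : FEt.Cat X', Nonempty ((FEt.restrict (p ⁻¹ᵁ U).ι).obj Y ≅ (FEt.restrict (p ∣_ U)).obj V) := by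
  have hU' : ∀ η, IsFibMax (p ≫ f) η → η ∈ p ⁻¹ᵁ U := fun η hη => hU _ (isFibMax_of_flat p f hη)
  refine exists_extend_of_regular_or_depth (p ≫ f) (fun s => Or.inr ?_) (p ⁻¹ᵁ U) hU' _ fun x hx hd => ?_
  · have hs : ∀ s : Spec (CommRingCat.of k), IsField ((Spec (CommRingCat.of k)).presheaf.stalk s) := fun s => by
      refine (Spec.stalkIso (CommRingCat.of k) s).commRingCatIsoToRingEquiv.toMulEquiv.isField ?_
      have hb : (s : PrimeSpectrum k).asIdeal = ⊥ :=
        (Ideal.eq_bot_or_top _).resolve_right (s : PrimeSpectrum k).isPrime.ne_top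
      haveI : IsFractionRing k (Localization.AtPrime (s : PrimeSpectrum k).asIdeal) := by
        have h : (s : PrimeSpectrum k).asIdeal.primeCompl = nonZeroDivisors k := by
          ext x
          simp [Ideal.primeCompl, hb, mem_nonZeroDivisors_iff_ne_zero]
        show IsLocalization (nonZeroDivisors k) _
        rw [← h]
        infer_instance
      letI := IsFractionRing.toField k (K := Localization.AtPrime (s : PrimeSpectrum k).asIdeal)
      exact Field.toIsField _
    exact RegLoc6.isRegularLocalRing_of_isField (hs s)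
  obtain ⟨_, _⟩ := isDVR_of_not_mem (p ≫ f) (p ⁻¹ᵁ U) hU' x hx hd
  let O := X'.presheaf.stalk x
  let A := X.presheaf.stalk (p x)
  haveI : IsLocallyNoetherian X := LocallyOfFiniteType.isLocallyNoetherian f
  haveI : IsLocallyNoetherian X' := inferInstance
  letI : Algebra A O := (p.stalkMap x).hom.toAlgebra
  haveI : Module.Flat A O := Flat.stalkMap p x
  haveI : IsLocalHom (algebraMap A O) := inferInstanceAs (IsLocalHom (p.stalkMap x).hom)
  haveI : Module.FaithfullyFlat A O := Module.FaithfullyFlat.of_flat_of_isLocalHom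
  have hdA : ringKrullDim A ≤ 1 := by
    haveI : (maximalIdeal O).LiesOver (maximalIdeal A) := ⟨(IsLocalRing.maximalIdeal_comap (algebraMap A O)).symm⟩
    refine le_trans ?_ hd
    rw [← IsLocalRing.maximalIdeal_height_eq_ringKrullDim, ← IsLocalRing.maximalIdeal_height_eq_ringKrullDim,
      Ideal.height_eq_height_add_of_liesOver_of_hasGoingDown (maximalIdeal A) (maximalIdeal O)]
    exact WithBot.coe_le_coe.2 le_self_add
  obtain ⟨_, _⟩ := isDVR_of_not_mem f U hU (p x) hx hdA
  obtain ⟨π, N, z, hπ, hN, hz, htame⟩ := hpt x hx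
  let K := FractionRing A
  let K₁ := FractionRing O
  haveI : FaithfulSMul A O := inferInstance
  have hinj : Function.Injective ((algebraMap O K₁).comp (algebraMap A O)) :=
    (IsFractionRing.injective O K₁).comp (FaithfulSMul.algebraMap_injective A O)
  letI : Algebra K K₁ := (IsFractionRing.lift hinj : K →+* K₁).toAlgebra
  have hc : p.stalkMap x ≫ CommRingCat.ofHom (algebraMap O K₁) =
      CommRingCat.ofHom (algebraMap A K) ≫ CommRingCat.ofHom (algebraMap K K₁) :=
    lift_square (p.stalkMap x) hinj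
  haveI : IsScalarTower A O K₁ := inferInstance
  haveI : IsScalarTower A K K₁ := IsScalarTower.of_algebraMap_eq fun a =>
    (IsScalarTower.algebraMap_apply A O K₁ a).trans (IsFractionRing.lift_algebraMap hinj a).symm
  let j := genPt f U hU (p x)
  let j' := genPt (p ≫ f) (p ⁻¹ᵁ U) hU' x
  let φK := Spec.map (CommRingCat.ofHom (algebraMap K K₁))
  have hj : j' ≫ p ∣_ U = φK ≫ j := by
    rw [← cancel_mono U.ι, Category.assoc, morphismRestrict_ι, Category.assoc]
    show IsOpenImmersion.lift _ (genMap X' x) _ ≫ _ ≫ p = φK ≫ IsOpenImmersion.lift _ (genMap X (p x)) _ ≫ _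
    rw [IsOpenImmersion.lift_fac_assoc, IsOpenImmersion.lift_fac]
    simp only [genMap, Category.assoc, φK]
    rw [← Scheme.SpecMap_stalkMap_fromSpecStalk (x := x) (f := p), ← Spec.map_comp_assoc, ← Spec.map_comp_assoc]
    exact congrArg (fun φ => Spec.map φ ≫ X.fromSpecStalk (p x)) hc
  haveI : LocallyOfFiniteType p := inferInstance
  haveI : Algebra.EssFiniteType A O := by
    rw [← RingHom.essFiniteType_algebraMap, RingHom.algebraMap_toAlgebra]
    exact LocallyOfFiniteType.stalkMap p x
  haveI : Algebra.EssFiniteType O K₁ := Algebra.EssFiniteType.of_isLocalization K₁ (nonZeroDivisors O)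
  haveI : Algebra.EssFiniteType A K₁ := Algebra.EssFiniteType.comp A O K₁
  haveI : Algebra.EssFiniteType K K₁ := Algebra.EssFiniteType.of_comp A K K₁
  haveI hι : IsOpenImmersion (Spec.map (CommRingCat.ofHom (algebraMap O K₁))) := DvrExt.isOpenImmersion_generic O K₁
  haveI : FormallyUnramified φK := by
    haveI hs : FormallyUnramified (X'.fromSpecStalk x) := inferInstance
    haveI : FormallyUnramified (genMap X' x) := by
      unfold genMap; infer_instance
    haveI : FormallyUnramified j' := by
      haveI : FormallyUnramified (j' ≫ (p ⁻¹ᵁ U).ι) := by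
        show FormallyUnramified (IsOpenImmersion.lift _ (genMap X' x) _ ≫ _)
        rw [IsOpenImmersion.lift_fac]; infer_instance
      exact FormallyUnramified.of_comp j' (p ⁻¹ᵁ U).ι
    haveI : FormallyUnramified (φK ≫ j) := by
      rw [← hj]
      exact MorphismProperty.comp_mem @FormallyUnramified j' (p ∣_ U) ‹_› inferInstance
    exact FormallyUnramified.of_comp φK j
  haveI : Algebra.FormallyUnramified K K₁ := by
    have := (HasRingHomProperty.Spec_iff (P := @FormallyUnramified)).1 ‹FormallyUnramified φK›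
    exact RingHom.formallyUnramified_algebraMap.1 this
  haveI : Algebra.IsSeparable K K₁ := Algebra.FormallyUnramified.isSeparable K K₁
  haveI : Module.Finite K K₁ := Algebra.FormallyUnramified.finite_of_free K K₁
  obtain ⟨Ex, ⟨e⟩⟩ := exists_extension (A := A) (K := K) (O := O) (K₁ := K₁) ((FEt.restrict j).obj V) N hN π hπ z hz
    htame
  refine ⟨Ex, ?_⟩
  let b := pullback.snd (p ⁻¹ᵁ U).ι (X'.fromSpecStalk x)
  let a := pullback.fst (p ⁻¹ᵁ U).ι (X'.fromSpecStalk x)
  have hrange : Set.range b = Set.range (Spec.map (CommRingCat.ofHom (algebraMap O K₁))) := by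
    rw [range_snd_stalk]
    ext q
    constructor
    · intro hq
      have hqne : (q : PrimeSpectrum O) ≠ closedPoint O := fun h =>
        hx (Scheme.fromSpecStalk_closedPoint (X := X') (x := x) ▸ h ▸ hq)
      have hb : (q : PrimeSpectrum O).asIdeal = ⊥ := by
        by_contra hne
        exact hqne (PrimeSpectrum.ext (IsLocalRing.eq_maximalIdeal ((q : PrimeSpectrum O).isPrime.isMaximal hne)))
      refine ⟨(⟨⊥, Ideal.isPrime_bot⟩ : PrimeSpectrum K₁), PrimeSpectrum.ext ?_⟩
      show (⊥ : Ideal K₁).comap _ = _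
      exact (Ideal.comap_bot_of_injective _ (IsFractionRing.injective O K₁)).trans hb.symm
    · rintro ⟨w, rfl⟩
      exact genMap_mem (p ≫ f) (p ⁻¹ᵁ U) hU' x ⟨w, rfl⟩
  let κ := IsOpenImmersion.isoOfRangeEq b (Spec.map (CommRingCat.ofHom (algebraMap O K₁))) hrange
  have h1 : κ.hom ≫ Spec.map (CommRingCat.ofHom (algebraMap O K₁)) = b := IsOpenImmersion.isoOfRangeEq_hom_fac _ _ _
  have h2 : (κ.hom ≫ φK) ≫ j = a ≫ p ∣_ U := by
    rw [Category.assoc, ← hj, ← Category.assoc]
    congr 1
    rw [← cancel_mono (p ⁻¹ᵁ U).ι, Category.assoc, pullback.condition]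
    show κ.hom ≫ IsOpenImmersion.lift _ (genMap X' x) _ ≫ _ = _
    rw [IsOpenImmersion.lift_fac, genMap, reassoc_of% h1]
  exact ⟨restrictComp κ.hom _ _ h1.symm Ex ≪≫ (FEt.restrict κ.hom).mapIso e ≪≫
    (restrictComp κ.hom φK _ rfl _).symm ≪≫ (restrictComp (κ.hom ≫ φK) j _ h2.symm V).symm ≪≫
    restrictComp a (p ∣_ U) _ rfl V⟩

end Groth.Agent.RelDvr

end
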