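import Groth.Agent.RelDvr.Extend
import Groth.Prelude.Def_SGA1t

/-!
# The components of a principal cover of a field are Galois of degree dividing the order
-/

set_option autoImplicit false
attribute [-instance] CategoryTheory.catToReflQuiver
set_option linter.style.haveILetI false
set_option backward.isDefEq.respectTransparency false
set_option backward.isDefEq.respectTransparency.types false

universe u v

open CategoryTheory CategoryTheory.Limits AlgebraicGeometry IsLocalRing

noncomputable section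

namespace Groth.Agent.RelDvr

open Groth.Agent

theorem isGalois_of_principal {K : Type u} [Field K] (V : FEt.Cat (Spec (CommRingCat.of K)))
    {G : Type v} [Group G] [Finite G] (ρ : G →* Aut V)
    (hρ : ∀ (Ω : Type u) [Field Ω] [IsAlgClosed Ω] (ξ : Spec (CommRingCat.of Ω) ⟶ Spec (CommRingCat.of K))
      (s t : FEt.fiberObj ξ V), ∃! g : G, (FEt.fiber ξ).map (ρ g).hom s = t)
    (L : Type u) [Field L] [Algebra K L] [FiniteDimensional K L] [Algebra.IsSeparable K L]
    (φ : Γ(V.left, ⊤) ⟶ CommRingCat.of L) (hφ : GalPtLib.struct V ≫ φ = CommRingCat.ofHom (algebraMap K L))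
    (hsurj : Function.Surjective φ.hom) : IsGalois K L ∧ Module.finrank K L ∣ Nat.card G := by
  let e : V.left ≅ Spec Γ(V.left, ⊤) := V.left.isoSpec
  let f := GalPtLib.struct V
  have hf : Spec.map f = e.inv ≫ V.hom := GalPtLib.struct_spec V
  let s : G → (Γ(V.left, ⊤) ⟶ Γ(V.left, ⊤)) := fun g => Spec.preimage (e.inv ≫ (ρ g).hom.left ≫ e.hom)
  have hs : ∀ g, Spec.map (s g) = e.inv ≫ (ρ g).hom.left ≫ e.hom := fun g => Spec.map_preimage _
  have hw : ∀ g, (ρ g).hom.left ≫ V.hom = V.hom := fun g => CategoryTheory.Over.w (ρ g).hom.hom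
  have hsf : ∀ g, f ≫ s g = f := fun g => Spec.map_injective (by
    rw [Spec.map_comp, hs, hf]
    simp only [Category.assoc, Iso.hom_inv_id_assoc, hw])
  have hs1 : s 1 = 𝟙 _ := Spec.map_injective (by
    rw [hs, map_one, Spec.map_id]
    show e.inv ≫ 𝟙 V.left ≫ e.hom = _
    rw [Category.id_comp, Iso.inv_hom_id])
  have hsmul : ∀ g g', s (g * g') = s g ≫ s g' := fun g g' => Spec.map_injective (by
    rw [hs, map_mul, Spec.map_comp, hs, hs]
    simp only [Category.assoc, Iso.hom_inv_id_assoc]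
    rfl)
  let P : Ideal Γ(V.left, ⊤) := RingHom.ker φ.hom
  let H : Subgroup G :=
    { carrier := {g | P.comap (s g).hom = P}
      one_mem' := by show P.comap (s 1).hom = P; rw [hs1]; rfl
      mul_mem' := fun {g g'} (h : P.comap (s g).hom = P) (h' : P.comap (s g').hom = P) => by
        show P.comap (s (g * g')).hom = P
        rw [hsmul, CommRingCat.hom_comp, ← Ideal.comap_comap, h', h]
      inv_mem' := fun {g} (h : P.comap (s g).hom = P) => by
        show P.comap (s g⁻¹).hom = P
        conv_lhs => rw [← h]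
        rw [Ideal.comap_comap, ← CommRingCat.hom_comp, ← hsmul, inv_mul_cancel, hs1]
        rfl }
  let Ω := AlgebraicClosure K
  let ξ : Spec (CommRingCat.of Ω) ⟶ Spec (CommRingCat.of K) := Spec.map (CommRingCat.ofHom (algebraMap K Ω))
  let pt : (L →ₐ[K] Ω) → FEt.fiberObj ξ V := fun a =>
    ⟨Spec.map (φ ≫ CommRingCat.ofHom a.toRingHom) ≫ e.inv, by
      rw [Category.assoc, ← hf, ← Spec.map_comp, ← Category.assoc, hφ]
      congr 1
      ext c
      exact a.commutes c⟩
  have hact : ∀ (a b : L →ₐ[K] Ω) (g : G), (FEt.fiber ξ).map (ρ g).hom (pt a) = pt b ↔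
      s g ≫ φ ≫ CommRingCat.ofHom a.toRingHom = φ ≫ CommRingCat.ofHom b.toRingHom := fun a b g => by
    refine Subtype.ext_iff.trans ?_
    show (Spec.map _ ≫ e.inv) ≫ (ρ g).hom.left = Spec.map _ ≫ e.inv ↔ _
    rw [← (cancel_mono e.inv).trans (Spec.map_injective.eq_iff (a := s g ≫ φ ≫ CommRingCat.ofHom a.toRingHom)
      (b := φ ≫ CommRingCat.ofHom b.toRingHom)), Spec.map_comp (s g), hs]
    simp only [Category.assoc, Iso.hom_inv_id, Category.comp_id]
  let a : L →ₐ[K] Ω := IsAlgClosed.lift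
  have hmem : ∀ (b : L →ₐ[K] Ω) (g : G),
      s g ≫ φ ≫ CommRingCat.ofHom a.toRingHom = φ ≫ CommRingCat.ofHom b.toRingHom → g ∈ H := fun b g h => by
    show P.comap (s g).hom = P
    ext x
    have hx : a (φ.hom ((s g).hom x)) = b (φ.hom x) := congr($(h).hom x)
    rw [Ideal.mem_comap, RingHom.mem_ker, RingHom.mem_ker, ← map_eq_zero a, hx, map_eq_zero b]
  -- the automorphism of a stabilising element
  have hσ : ∀ g : H, ∃ σ : L →ₐ[K] L, ∀ x, σ (φ.hom x) = φ.hom ((s g).hom x) := fun g => by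
    have hker : RingHom.ker φ.hom ≤ RingHom.ker (φ.hom.comp (s g).hom) := fun x hx => (g.2.ge hx : _)
    let σ₀ : L →+* L := φ.hom.liftOfSurjective hsurj ⟨φ.hom.comp (s g).hom, hker⟩
    have hσ₀ : ∀ x, σ₀ (φ.hom x) = φ.hom ((s g).hom x) := fun x =>
      RingHom.liftOfRightInverse_comp_apply _ _ _ _ _
    refine ⟨{ σ₀ with commutes' := fun c => ?_ }, hσ₀⟩
    show σ₀ (algebraMap K L c) = algebraMap K L c
    have hc : φ.hom (f.hom c) = algebraMap K L c := congr($(hφ).hom c)
    rw [← hc, hσ₀, show (s g).hom (f.hom c) = f.hom c from congr($(hsf g).hom c)]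
  choose σ hσ using hσ
  let Φ : H → (L →ₐ[K] Ω) := fun g => a.comp (σ g)
  have hΦeq : ∀ g : H, (FEt.fiber ξ).map (ρ g).hom (pt a) = pt (Φ g) := fun g => (hact a _ _).2 <| by
    ext x
    exact congrArg a (hσ g x).symm
  have hΦ : Function.Bijective Φ := by
    refine ⟨fun g g' h => Subtype.ext ?_, fun b => ?_⟩
    · exact (hρ Ω ξ (pt a) (pt (Φ g))).unique (hΦeq g) (h ▸ hΦeq g')
    · obtain ⟨g, hg, -⟩ := hρ Ω ξ (pt a) (pt b)
      have hg' := (hact a b g).1 hg
      refine ⟨⟨g, hmem b g hg'⟩, AlgHom.ext fun y => ?_⟩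
      obtain ⟨x, rfl⟩ := hsurj y
      show a (σ _ (φ.hom x)) = b (φ.hom x)
      rw [hσ]
      exact congr($(hg').hom x)
  have hcard : Nat.card H = Module.finrank K L := by
    rw [Nat.card_eq_of_bijective Φ hΦ, Nat.card_eq_fintype_card]
    exact AlgHom.card K L Ω
  refine ⟨IsGalois.of_card_aut_eq_finrank K L (le_antisymm ?_ ?_), hcard ▸ Subgroup.card_subgroup_dvd_card H⟩
  · rw [Nat.card_eq_fintype_card]
    exact AlgEquiv.card_le
  · rw [← hcard]
    refine Nat.card_le_card_of_injective (fun g => AlgEquiv.ofBijective (σ g) (AlgHom.bijective (σ g))) ?_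
    intro g g' h
    refine hΦ.1 (congrArg a.comp ?_)
    exact AlgHom.ext fun y => congrArg (fun τ : L ≃ₐ[K] L => τ y) h

/-- A principal cover of order invertible in the residue field is tame with indices dividing the order. -/
theorem tameDvd_of_principal {A K : Type u} [CommRing A] [IsDomain A] [IsDiscreteValuationRing A] [Field K]
    [Algebra A K] [IsFractionRing A K] (V : FEt.Cat (Spec (CommRingCat.of K))) {G : Type v} [Group G] [Finite G]
    (ρ : G →* Aut V)
    (hρ : ∀ (Ω : Type u) [Field Ω] [IsAlgClosed Ω] (ξ : Spec (CommRingCat.of Ω) ⟶ Spec (CommRingCat.of K))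
      (s t : FEt.fiberObj ξ V), ∃! g : G, (FEt.fiber ξ).map (ρ g).hom s = t)
    (n : ℕ) (hn : Nat.card G ∣ n) (hunit : (n : ResidueField A) ≠ 0)
    (L : Type u) [Field L] [Algebra K L] [FiniteDimensional K L] [Algebra.IsSeparable K L]
    (φ : Γ(V.left, ⊤) ⟶ CommRingCat.of L) (hφ : GalPtLib.struct V ≫ φ = CommRingCat.ofHom (algebraMap K L))
    (hsurj : Function.Surjective φ.hom) : TameDvd A ((algebraMap K L).comp (algebraMap A K)) n := by
  obtain ⟨hgal, hdvd⟩ := isGalois_of_principal V ρ hρ L φ hφ hsurj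
  haveI := hgal
  exact tameDvd_of_galois L n (hdvd.trans hn) hunit

end Groth.Agent.RelDvr

end
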