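import Groth.Agent.RelDvr.Root
import Groth.Agent.AbhAbs.Dvr
import Groth.Agent.VarDim.Basic

/-!
# The integral closure of a tame étale algebra over a root of the uniformizer is étale
-/

set_option autoImplicit false
set_option linter.style.haveILetI false
set_option backward.isDefEq.respectTransparency false

universe u

open IsLocalRing TensorProduct

namespace Groth.Agent.RelDvr

/-- The integral closure in a product is the product of the integral closures. -/
noncomputable def piEquiv (R : Type u) [CommRing R] {ι : Type u} [Finite ι] (M : ι → Type u) [∀ i, CommRing (M i)]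
    [∀ i, Algebra R (M i)] : integralClosure R (Π i, M i) ≃ₐ[R] Π i, integralClosure R (M i) :=
  AlgEquiv.ofBijective
    (Pi.algHom R _ fun i => ((Pi.evalAlgHom R M i).comp (integralClosure R (Π i, M i)).val).codRestrict
      (integralClosure R (M i)) fun x => x.2.map (Pi.evalAlgHom R M i))
    ⟨fun x y h => Subtype.ext (funext fun i => congrArg Subtype.val (congrFun h i)),
      fun x => by
        classical
        cases nonempty_fintype ι
        choose p hp hpx using fun i => (x i).2
        refine ⟨⟨fun i => (x i).1, ⟨∏ i, p i, Polynomial.monic_prod_of_monic _ _ fun i _ => hp i, funext fun i => ?_⟩⟩, rfl⟩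
        show Pi.evalAlgHom R M i (Polynomial.aeval (fun i => (x i).1) (∏ i, p i)) = 0
        rw [← Polynomial.aeval_algHom_apply, map_prod]
        exact Finset.prod_eq_zero (Finset.mem_univ i) (hpx i)⟩

variable {A K : Type u} [CommRing A] [IsDomain A] [IsDiscreteValuationRing A] [Field K] [Algebra A K]
  [IsFractionRing A K]
variable {O K₁ : Type u} [CommRing O] [IsDomain O] [IsDiscreteValuationRing O] [Field K₁] [Algebra O K₁]
  [IsFractionRing O K₁]
variable [Algebra A O] [IsLocalHom (algebraMap A O)] [Algebra A K₁] [IsScalarTower A O K₁] [Algebra K K₁]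
  [IsScalarTower A K K₁] [FiniteDimensional K K₁] [Algebra.IsSeparable K K₁]

/-- Tameness with ramification indices dividing `N`. -/
def TameDvd (A : Type u) [CommRing A] [IsLocalRing A] {L : Type u} [Field L] (g : A →+* L) (N : ℕ) : Prop :=
  EtRam.IsTamelyRamified A g ∧ ∀ (V : ValuationSubring L) (h : EtRam.Dominates A g V),
    letI : Algebra A V := (RingHom.codRestrict g V h.1).toAlgebra
    Ideal.ramificationIdx' (maximalIdeal A) (maximalIdeal V) ∣ N

theorem etale_field {M L : Type u} [Field M] [Field L] [Algebra K L] [Algebra K M] [Algebra K₁ M] [Algebra L M]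
    [IsScalarTower K L M] [IsScalarTower K K₁ M] [FiniteDimensional K₁ M] [Algebra.IsSeparable K₁ M] [Algebra O M]
    [IsScalarTower O K₁ M] (hgen : Algebra.adjoin L (Set.range (algebraMap K₁ M)) = ⊤) (N : ℕ) (hN : 0 < N)
    (π : A) (hπ : maximalIdeal A = Ideal.span {π}) (z : O) (hz : z ^ N = algebraMap A O π)
    (hL : TameDvd A ((algebraMap K L).comp (algebraMap A K)) N) :
    Algebra.Etale O (integralClosure O M) ∧ Module.Finite O (integralClosure O M) := by
  haveI : FiniteDimensional K M := FiniteDimensional.trans K K₁ M
  haveI : Algebra.IsSeparable K M := Algebra.IsSeparable.trans K K₁ M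
  let D := integralClosure O M
  haveI : Module.Finite O D := IsIntegralClosure.finite O K₁ M D
  have hinj : Function.Injective (algebraMap O M) := by
    rw [IsScalarTower.algebraMap_eq O K₁ M]
    exact (algebraMap K₁ M).injective.comp (IsFractionRing.injective O K₁)
  haveI : FaithfulSMul O D := (faithfulSMul_iff_algebraMap_injective O D).2 fun a b h =>
    hinj (congrArg Subtype.val h)
  haveI : Module.IsTorsionFree O D := inferInstance
  haveI : Module.Free O D := inferInstance
  have hmax : ∀ (Q : Ideal D) (hQ : Q.IsMaximal), haveI := hQ.isPrime; Algebra.IsUnramifiedAt O Q := by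
    intro Q hQ
    haveI := hQ.isPrime
    have hP : (Q.comap (algebraMap O D)).IsMaximal := Ideal.isMaximal_comap_of_isIntegral_of_isMaximal Q
    have hPe : Q.comap (algebraMap O D) = maximalIdeal O := IsLocalRing.eq_maximalIdeal hP
    haveI : Q.IsPrime := hQ.isPrime
    have hP1 : (Q.comap (algebraMap O D)).height = 1 := by
      rw [hPe]
      exact_mod_cast (IsLocalRing.maximalIdeal_height_eq_ringKrullDim (R := O)).trans
        (IsPrincipalIdealRing.ringKrullDim_eq_one O (IsDiscreteValuationRing.not_isField O))
    have hQ1 : Q.height = 1 := le_antisymm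
      (by
        have := Ideal.height_le_ringKrullDim_of_ne_top hQ.ne_top
        rw [VarDim.ringKrullDim_eq_of_isIntegral (R := O) (S := D),
          IsPrincipalIdealRing.ringKrullDim_eq_one O (IsDiscreteValuationRing.not_isField O)] at this
        exact_mod_cast this)
      (by
        rw [Order.one_le_iff_ne_zero, Ne, Ideal.height_eq_zero_iff_eq_bot]
        rintro rfl
        rw [Ideal.comap_bot_of_injective _ (FaithfulSMul.algebraMap_injective O D)] at hPe
        exact IsDiscreteValuationRing.not_a_field O hPe.symm)
    obtain ⟨W, hDW, hQW, -, hcrit⟩ := AbhAbs.exists_valuationSubring O K₁ M D Q hQ1 hP1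
    refine hcrit ?_
    have hA : ∀ a : A, ((algebraMap K M).comp (algebraMap A K)) a = algebraMap D M (algebraMap O D (algebraMap A O a)) :=
      fun a => by
        rw [RingHom.comp_apply, ← IsScalarTower.algebraMap_apply O D M, IsScalarTower.algebraMap_apply K K₁ M,
          ← IsScalarTower.algebraMap_apply A K K₁, IsScalarTower.algebraMap_apply A O K₁,
          ← IsScalarTower.algebraMap_apply O K₁ M]
    have hdom : EtRam.Dominates A ((algebraMap K M).comp (algebraMap A K)) W :=
      ⟨fun a => by rw [hA]; exact hDW _, fun a ha => by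
        rw [hA]
        refine hQW _ ?_
        rw [← Ideal.mem_comap, hPe]
        exact map_nonunit (algebraMap A O) a ha⟩
    exact unramified_of_root (A := A) (K := K) (L := L) (K₁ := K₁) (M := M) hL.1 hgen π hπ N hN (algebraMap O K₁ z)
      (by rw [← map_pow, hz, ← IsScalarTower.algebraMap_apply A O K₁, ← IsScalarTower.algebraMap_apply A K K₁])
      hL.2 W hdom
  haveI : Algebra.FormallyUnramified O D := by
    refine Algebra.unramifiedLocus_eq_univ_iff.1 (Set.eq_univ_of_forall fun q => ?_)
    obtain ⟨Q, hQ, hqQ⟩ := q.asIdeal.exists_le_maximal q.isPrime.ne_top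
    exact (Algebra.isOpen_unramifiedLocus (R := O) (A := D)).stableUnderGeneralization
      ((PrimeSpectrum.le_iff_specializes q ⟨Q, hQ.isPrime⟩).1 hqQ) (hmax Q hQ)
  haveI : Algebra.FinitePresentation O D := Algebra.FinitePresentation.of_finiteType.mp inferInstance
  exact ⟨Algebra.Etale.of_formallyUnramified_of_flat, inferInstance⟩

/-- Abhyankar's lemma over a root of the uniformizer, for étale algebras. -/
theorem etale_integralClosure (B : Type u) [CommRing B] [Algebra K B] [Algebra.Etale K B] (N : ℕ) (hN : 0 < N)
    (π : A) (hπ : maximalIdeal A = Ideal.span {π}) (z : O) (hz : z ^ N = algebraMap A O π)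
    (hB : ∀ (L : Type u) [Field L] [Algebra K L] [FiniteDimensional K L] [Algebra.IsSeparable K L]
      (φ : B →ₐ[K] L), Function.Surjective φ → TameDvd A ((algebraMap K L).comp (algebraMap A K)) N) :
    Algebra.Etale O (integralClosure O (K₁ ⊗[K] B)) ∧ Module.Finite O (integralClosure O (K₁ ⊗[K] B)) := by
  classical
  let E := K₁ ⊗[K] B
  haveI : Algebra.Etale K₁ E := inferInstance
  obtain ⟨I, hI, M, _, _, ε, hsep⟩ :=
    (Algebra.FormallyEtale.iff_exists_algEquiv_prod (K := K₁) (A := E)).1 inferInstance
  haveI := hI
  haveI : Module.Finite K₁ E := Algebra.FormallyUnramified.finite_of_free K₁ E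
  haveI : ∀ i, Module.Finite K₁ (M i) := fun i => Module.Finite.of_surjective
    ((Pi.evalAlgHom K₁ M i).comp ε.toAlgHom).toLinearMap ((Function.surjective_eval i).comp ε.surjective)
  haveI := hsep
  letI : ∀ i, Algebra O (M i) := fun i => ((algebraMap K₁ (M i)).comp (algebraMap O K₁)).toAlgebra
  haveI : ∀ i, IsScalarTower O K₁ (M i) := fun i => IsScalarTower.of_algebraMap_eq fun _ => rfl
  have hM : ∀ i, Algebra.Etale O (integralClosure O (M i)) ∧ Module.Finite O (integralClosure O (M i)) := by
    intro i
    letI : Algebra K (M i) := ((algebraMap K₁ (M i)).comp (algebraMap K K₁)).toAlgebra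
    haveI : IsScalarTower K K₁ (M i) := IsScalarTower.of_algebraMap_eq fun _ => rfl
    let χ : E →ₐ[K₁] M i := (Pi.evalAlgHom K₁ M i).comp ε.toAlgHom
    have hχ : Function.Surjective χ := (Function.surjective_eval i).comp ε.surjective
    let φ : B →ₐ[K] M i := (χ.restrictScalars K).comp Algebra.TensorProduct.includeRight
    haveI : FiniteDimensional K (M i) := FiniteDimensional.trans K K₁ (M i)
    haveI : Algebra.IsSeparable K (M i) := Algebra.IsSeparable.trans K K₁ (M i)
    let L : IntermediateField K (M i) :=
      { φ.range with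
        inv_mem' := fun x hx => Subalgebra.inv_mem_of_algebraic _ (x := ⟨x, hx⟩) (Algebra.IsAlgebraic.isAlgebraic x) }
    haveI : FiniteDimensional K L := IntermediateField.finiteDimensional_left L
    haveI : Algebra.IsSeparable K L := Algebra.isSeparable_tower_bot_of_isSeparable K L (M i)
    let φL : B →ₐ[K] L := φ.codRestrict L.toSubalgebra fun b => ⟨b, rfl⟩
    have hφL : Function.Surjective φL := fun x => by
      obtain ⟨b, hb⟩ := x.2
      exact ⟨b, Subtype.ext hb⟩
    refine etale_field (K := K) (K₁ := K₁) (L := L) ?_ N hN π hπ z hz (hB L φL hφL)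
    rw [eq_top_iff]
    rintro x -
    obtain ⟨e, rfl⟩ := hχ x
    induction e using TensorProduct.induction_on with
    | zero => rw [map_zero]; exact zero_mem _
    | tmul c b =>
      rw [← mul_one c, ← smul_eq_mul, ← TensorProduct.smul_tmul', map_smul, Algebra.smul_def]
      exact mul_mem (Algebra.subset_adjoin ⟨c, rfl⟩)
        ((Algebra.adjoin L (Set.range (algebraMap K₁ (M i)))).algebraMap_mem ⟨φ b, b, rfl⟩)
    | add a b ha hb => rw [map_add]; exact add_mem ha hb
  haveI : ∀ i, Algebra.Etale O (integralClosure O (M i)) := fun i => (hM i).1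
  haveI : ∀ i, Module.Finite O (integralClosure O (M i)) := fun i => (hM i).2
  haveI : IsScalarTower O K₁ (Π i, M i) := IsScalarTower.of_algebraMap_eq fun _ => rfl
  let εO : E ≃ₐ[O] Π i, M i := AlgEquiv.restrictScalars O ε
  let e : integralClosure O E ≃ₐ[O] Π i, integralClosure O (M i) :=
    (AlgEquiv.mapIntegralClosure εO).trans (piEquiv O M)
  haveI : Module.Finite O (Π i, integralClosure O (M i)) := inferInstance
  haveI : Algebra.FinitePresentation O (Π i, integralClosure O (M i)) :=
    Algebra.FinitePresentation.of_finiteType.mp inferInstance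
  haveI : Algebra.FormallyEtale O (Π i, integralClosure O (M i)) := inferInstance
  haveI : Algebra.Etale O (Π i, integralClosure O (M i)) := ⟨inferInstance, inferInstance⟩
  exact ⟨Algebra.Etale.of_equiv e.symm, Module.Finite.equiv e.symm.toLinearEquiv⟩

end Groth.Agent.RelDvr
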