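import Groth.Agent.RelDvr.Etale
import Groth.Agent.S7125
import Mathlib.NumberTheory.RamificationInertia.Galois
import Mathlib.FieldTheory.Galois.IsGaloisGroup

/-!
# A Galois extension of degree invertible in the residue field is tame
-/

set_option autoImplicit false
set_option linter.style.haveILetI false
set_option backward.isDefEq.respectTransparency false

universe u

open IsLocalRing

namespace Groth.Agent.RelDvr

theorem isSeparable_of_finrank_ne_zero {F E : Type u} [Field F] [Field E] [Algebra F E] [FiniteDimensional F E]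
    (h : (Module.finrank F E : F) ≠ 0) : Algebra.IsSeparable F E := by
  obtain ⟨q, hq⟩ := ExpChar.exists F
  rw [isSeparable_iff_finInsepDegree_eq_one]
  obtain ⟨k, hk⟩ := finInsepDegree_eq_pow F E q
  rcases hq with _ | hp
  · rw [hk, one_pow]
  · rcases Nat.eq_zero_or_pos k with rfl | hk0
    · rw [hk, pow_zero]
    · refine absurd ?_ h
      rw [← Field.finSepDegree_mul_finInsepDegree F E, hk, Nat.cast_mul, Nat.cast_pow, CharP.cast_eq_zero (R := F) q,
        zero_pow hk0.ne', mul_zero]

theorem tameDvd_of_galois {A K : Type u} [CommRing A] [IsDomain A] [IsDiscreteValuationRing A] [Field K]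
    [Algebra A K] [IsFractionRing A K] (L : Type u) [Field L] [Algebra K L] [FiniteDimensional K L] [IsGalois K L]
    (N : ℕ) (hdvd : Module.finrank K L ∣ N) (hN : (N : ResidueField A) ≠ 0) :
    TameDvd A ((algebraMap K L).comp (algebraMap A K)) N := by
  suffices H : ∀ (V : ValuationSubring L) (hV : EtRam.Dominates A ((algebraMap K L).comp (algebraMap A K)) V),
      letI : Algebra A V := (RingHom.codRestrict ((algebraMap K L).comp (algebraMap A K)) V hV.1).toAlgebra
      Ideal.ramificationIdx' (maximalIdeal A) (maximalIdeal V) ∣ N ∧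
      ∀ [IsLocalHom (algebraMap A V)], Algebra.IsSeparable (ResidueField A) (ResidueField V) by
    refine ⟨fun V hV => ?_, fun V hV => (H V hV).1⟩
    letI : Algebra A V := (RingHom.codRestrict ((algebraMap K L).comp (algebraMap A K)) V hV.1).toAlgebra
    intro hloc
    refine ⟨(H V hV).2, fun p hp hchar hdiv => hN ?_⟩
    exact (CharP.cast_eq_zero_iff (ResidueField A) p N).2 (hdiv.trans (H V hV).1)
  intro V hV
  letI : Algebra A V := (RingHom.codRestrict ((algebraMap K L).comp (algebraMap A K)) V hV.1).toAlgebra
  letI : Algebra A L := ((algebraMap K L).comp (algebraMap A K)).toAlgebra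
  haveI : IsScalarTower A K L := IsScalarTower.of_algebraMap_eq fun _ => rfl
  haveI : IsScalarTower A V L := IsScalarTower.of_algebraMap_eq fun _ => rfl
  haveI hdvV : IsDiscreteValuationRing V := H1Ram.isDVR_of_dominates V hV
  obtain ⟨n, hn, hmapV⟩ := H1Ram.map_maximalIdeal_eq_pow V hV
  let D := integralClosure A L
  haveI : Module.Finite A D := IsIntegralClosure.finite A K L D
  haveI : IsFractionRing D L := IsIntegralClosure.isFractionRing_of_finite_extension A K L D
  haveI : IsDedekindDomain D := IsIntegralClosure.isDedekindDomain A K L D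
  have hinjD : Function.Injective (algebraMap A D) := fun a b h =>
    IsFractionRing.injective A K ((algebraMap K L).injective (congrArg Subtype.val h))
  haveI : FaithfulSMul A D := (faithfulSMul_iff_algebraMap_injective A D).2 hinjD
  haveI : Module.Free A D := inferInstance
  letI := IsIntegralClosure.MulSemiringAction A K L D
  haveI : IsGaloisGroup Gal(L/K) A D := IsGaloisGroup.of_isFractionRing _ _ _ K L
  -- the centre of the valuation ring
  have hDV : ∀ x : D, (x : L) ∈ V := fun x => by
    obtain ⟨y, hy⟩ := IsIntegrallyClosed.isIntegral_iff.1 (IsIntegral.tower_top (A := V) x.2)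
    exact hy ▸ y.2
  let ι : D →+* V := D.toSubring.subtype.codRestrict V.toSubring hDV
  let P : Ideal D := (maximalIdeal V).comap ι
  haveI : P.IsPrime := Ideal.comap_isPrime _ _
  have hιA : ι.comp (algebraMap A D) = algebraMap A V := RingHom.ext fun a => Subtype.ext rfl
  have hloc : IsLocalHom (algebraMap A V) := ⟨fun a ha => by
    by_contra hna
    have h1 := hV.2 a hna
    exact (mem_maximalIdeal _).1 ((V.valuation_lt_one_iff (algebraMap A V a)).2 h1) ha⟩
  have hPA : P.comap (algebraMap A D) = maximalIdeal A := by
    rw [Ideal.comap_comap, hιA, IsLocalRing.maximalIdeal_comap]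
  haveI : P.LiesOver (maximalIdeal A) := ⟨hPA.symm⟩
  haveI hPmax : P.IsMaximal := Ideal.isMaximal_of_isIntegral_of_isMaximal_comap P (hPA ▸ maximalIdeal.isMaximal A)
  have hPne : P ≠ ⊥ := fun h => by
    rw [h, Ideal.comap_bot_of_injective _ hinjD] at hPA
    exact IsDiscreteValuationRing.not_a_field A hPA.symm
  haveI : IsDiscreteValuationRing (Localization.AtPrime P) := IsLocalization.AtPrime.isDiscreteValuationRing_of_dedekind_domain D hPne _
  -- the valuation ring is the local ring at the centre
  letI : Algebra D V := ι.toAlgebra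
  haveI : IsScalarTower A D V := IsScalarTower.of_algebraMap_eq fun a => (RingHom.congr_fun hιA a).symm
  haveI : IsLocalHom (algebraMap A V) := hloc
  let O := Localization.AtPrime P
  have hu : ∀ s : P.primeCompl, IsUnit (ι s) := fun s => by
    by_contra h
    exact s.2 ((mem_maximalIdeal _).2 h)
  let e₀ : O →ₐ[D] V :=
    { IsLocalization.lift (M := P.primeCompl) hu with commutes' := fun x => IsLocalization.lift_eq hu x }
  have hιs : ∀ x : D, e₀ (algebraMap D O x) = ι x := fun x => IsLocalization.lift_eq hu x
  have he₀inj : Function.Injective e₀ := by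
    refine (IsLocalization.lift_injective_iff (M := P.primeCompl) (S := O) hu).2 fun x y => ?_
    refine ⟨fun h => congrArg ι (IsLocalization.injective O P.primeCompl_le_nonZeroDivisors h), fun h => ?_⟩
    exact congrArg (algebraMap D O) (Subtype.ext (show (ι x : L) = ι y from congrArg Subtype.val h))
  have he₀surj : Function.Surjective e₀ := by
    intro x
    obtain ⟨a, b, hb, hab⟩ := IsFractionRing.div_surjective (A := D) (x : L)
    have hb0 : (b : L) ≠ 0 := IsFractionRing.to_map_ne_zero_of_mem_nonZeroDivisors hb
    have hxb : x * ι b = ι a := Subtype.ext ((eq_div_iff hb0).1 hab.symm)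
    rcases ValuationRing.cond (algebraMap D O a) (algebraMap D O b) with ⟨c, hc | hc⟩
    · rcases em (IsUnit c) with hcu | hcu
      · obtain ⟨c', hc'⟩ := isUnit_iff_exists_inv.1 hcu
        refine ⟨c', mul_right_cancel₀ (b := ι b) (fun h => hb0 (congrArg Subtype.val h)) ?_⟩
        rw [hxb, ← hιs b, ← map_mul, ← hc, ← hιs a, show c' * (algebraMap D O a * c) = algebraMap D O a from by linear_combination (algebraMap D O a) * hc']
      · refine absurd (congrArg e₀ hc) fun h => ?_
        rw [map_mul, hιs, hιs] at h
        have hu' : IsUnit (e₀ c) := by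
          refine IsUnit.of_mul_eq_one x ?_
          refine mul_right_cancel₀ (b := ι b) (fun h => hb0 (congrArg Subtype.val h)) ?_
          rw [mul_assoc, hxb, one_mul, mul_comm]
          exact h
        obtain ⟨a', s', rfl⟩ := IsLocalization.exists_mk'_eq P.primeCompl c
        refine hcu ((IsLocalization.AtPrime.isUnit_mk'_iff O P a' s').2 fun ha' => ?_)
        have hs : e₀ (IsLocalization.mk' O a' s') * ι s' = ι a' := by
          rw [← hιs s', ← map_mul, IsLocalization.mk'_spec]; exact hιs a'
        exact (mem_maximalIdeal _).1 (show ι a' ∈ maximalIdeal V from ha') (hs ▸ hu'.mul (hu s'))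
    · refine ⟨c, mul_right_cancel₀ (b := ι b) (fun h => hb0 (congrArg Subtype.val h)) ?_⟩
      rw [hxb, ← hιs b, ← map_mul, mul_comm, hc]
      exact hιs a
  let e : O ≃ₐ[D] V := AlgEquiv.ofBijective e₀ ⟨he₀inj, he₀surj⟩
  -- the ramification index
  have hmapO : (maximalIdeal A).map (algebraMap A O) = maximalIdeal O ^ n := by
    suffices h : ((maximalIdeal A).map (algebraMap A O)).map e.toRingEquiv.toRingHom =
        (maximalIdeal O ^ n).map e.toRingEquiv.toRingHom by
      have := congrArg (Ideal.comap e.toRingEquiv.toRingHom) h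
      rwa [Ideal.comap_map_of_bijective e.toRingEquiv.toRingHom e.bijective,
        Ideal.comap_map_of_bijective e.toRingEquiv.toRingHom e.bijective] at this
    rw [Ideal.map_map, Ideal.map_pow]
    have h1 : e.toRingEquiv.toRingHom.comp (algebraMap A O) = algebraMap A V := RingHom.ext fun a => by
      show e (algebraMap A O a) = algebraMap A V a
      rw [IsScalarTower.algebraMap_apply A D O, e.commutes, ← IsScalarTower.algebraMap_apply]
    rw [h1, hmapV]
    congr 1
    refine ((IsLocalRing.eq_maximalIdeal ?_).symm)
    exact Ideal.map_isMaximal_of_equiv e.toRingEquiv (p := maximalIdeal O)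
  have hidx : P.ramificationIdx A = n := by
    rw [Ideal.ramificationIdx_eq (maximalIdeal A) P, hmapO, IsDiscreteValuationRing.length_quotient_pow_maximalIdeal]
    simp
  have hcard : Nat.card Gal(L/K) = Module.finrank K L := IsGalois.card_aut_eq_finrank K L
  have hform := Ideal.ncard_primesOver_mul_ramificationIdxIn_mul_inertiaDegIn (maximalIdeal A) D Gal(L/K)
  rw [Ideal.ramificationIdxIn_eq_ramificationIdx (maximalIdeal A) P Gal(L/K),
    Ideal.inertiaDegIn_eq_inertiaDeg (maximalIdeal A) P Gal(L/K), hcard, hidx] at hform
  refine ⟨?_, fun {_} => ?_⟩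
  · rw [H1Ram.ramificationIdx'_of_map_eq hmapV]
    exact ((dvd_mul_right n _).trans (dvd_mul_left _ _)).trans (hform ▸ hdvd)
  · have hf : P.inertiaDeg A ∣ N := ((dvd_mul_left _ n).trans (dvd_mul_left _ _)).trans (hform ▸ hdvd)
    rw [Ideal.inertiaDeg_eq_of_isMaximal (maximalIdeal A) P] at hf
    letI := Ideal.Quotient.field P
    letI : Algebra (ResidueField A) (D ⧸ P) := Ideal.Quotient.algebraOfLiesOver P (maximalIdeal A)
    haveI : IsScalarTower A (ResidueField A) (D ⧸ P) := IsScalarTower.of_algebraMap_eq fun _ => rfl
    haveI : Algebra.IsSeparable (ResidueField A) (D ⧸ P) := by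
      haveI : Module.Finite (ResidueField A) (D ⧸ P) := Module.Finite.of_restrictScalars_finite A _ _
      refine isSeparable_of_finrank_ne_zero fun h => hN ?_
      obtain ⟨m, rfl⟩ := hf
      rw [Nat.cast_mul]
      exact mul_eq_zero_of_left h _
    let ψ : (D ⧸ P) →ₐ[ResidueField A] ResidueField V :=
      { Ideal.Quotient.lift P ((residue V).comp ι) fun x hx => (residue_eq_zero_iff _).2 hx with
        commutes' := fun z => by
          obtain ⟨a, rfl⟩ := residue_surjective z
          exact congrArg (residue V) (RingHom.congr_fun hιA a) }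
    have hψ : Function.Bijective ψ := by
      refine ⟨ψ.toRingHom.injective, fun z => ?_⟩
      obtain ⟨v, rfl⟩ := residue_surjective z
      obtain ⟨y, rfl⟩ := e.surjective v
      obtain ⟨a, s, rfl⟩ := IsLocalization.exists_mk'_eq P.primeCompl y
      have hs : e (IsLocalization.mk' O a s) * ι s = ι a := by
        rw [← show e (algebraMap D O s) = ι s from e.commutes s, ← map_mul, IsLocalization.mk'_spec]
        exact e.commutes a
      have hsne : Ideal.Quotient.mk P (s : D) ≠ 0 := fun h => s.2 (Ideal.Quotient.eq_zero_iff_mem.1 h)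
      refine ⟨Ideal.Quotient.mk P a / Ideal.Quotient.mk P (s : D), ?_⟩
      rw [map_div₀, div_eq_iff ((_root_.map_ne_zero _).2 hsne)]
      show residue V (ι a) = residue V _ * residue V (ι s)
      rw [← map_mul, hs]
    exact AlgEquiv.Algebra.isSeparable (AlgEquiv.ofBijective ψ hψ)

end Groth.Agent.RelDvr
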