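import Mathlib
import Groth.Agent.H1Ram.Abhyankar
import Groth.Agent.H1Ram.TameComp
import Groth.Agent.H1Ram.ASStep

/-!
# Abhyankar's lemma for a root of a uniformizer, by divisibility of the ramification indices
-/

set_option autoImplicit false
set_option linter.style.haveILetI false

universe u

open IsLocalRing

namespace Groth.Agent.RelDvr

variable {A K : Type u} [CommRing A] [IsDomain A] [IsDiscreteValuationRing A] [Field K] [Algebra A K]
  [IsFractionRing A K]

/-- Adjoining an `N`-th root of a uniformizer kills tame ramification of indices dividing `N`. -/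
theorem unramified_of_root {L K₁ M : Type u} [Field L] [Field K₁] [Field M] [Algebra K L] [Algebra K K₁]
    [Algebra K M] [Algebra L M] [Algebra K₁ M] [IsScalarTower K L M] [IsScalarTower K K₁ M]
    [FiniteDimensional K M] [Algebra.IsSeparable K M]
    (hL : EtRam.IsTamelyRamified A ((algebraMap K L).comp (algebraMap A K)))
    (hgen : Algebra.adjoin L (Set.range (algebraMap K₁ M)) = ⊤)
    (π : A) (hπ : maximalIdeal A = Ideal.span {π}) (N : ℕ) (hN0 : 0 < N) (t : K₁)
    (ht : t ^ N = algebraMap K K₁ (algebraMap A K π))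
    (hN : ∀ (V : ValuationSubring L) (h : EtRam.Dominates A ((algebraMap K L).comp (algebraMap A K)) V),
      letI : Algebra A V := (RingHom.codRestrict ((algebraMap K L).comp (algebraMap A K)) V h.1).toAlgebra
      Ideal.ramificationIdx' (maximalIdeal A) (maximalIdeal V) ∣ N)
    (W : ValuationSubring M) (hW : EtRam.Dominates A ((algebraMap K M).comp (algebraMap A K)) W) :
    letI : Algebra (W.comap (algebraMap K₁ M)) W := (EtRam.inclOfComap W (algebraMap K₁ M)).toAlgebra
    haveI : IsLocalHom (algebraMap (W.comap (algebraMap K₁ M)) W) :=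
      EtRam.isLocalHom_inclOfComap W (algebraMap K₁ M)
    EtRam.IsWeaklyUnramified (W.comap (algebraMap K₁ M)) W ∧
      Algebra.IsSeparable (ResidueField (W.comap (algebraMap K₁ M))) (ResidueField W) := by
  haveI : FiniteDimensional K L :=
    FiniteDimensional.of_injective (IsScalarTower.toAlgHom K L M).toLinearMap (algebraMap L M).injective
  haveI : Algebra.IsSeparable K L := Algebra.isSeparable_tower_bot_of_isSeparable K L M
  haveI : FiniteDimensional K K₁ :=
    FiniteDimensional.of_injective (IsScalarTower.toAlgHom K K₁ M).toLinearMap (algebraMap K₁ M).injective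
  haveI : Algebra.IsSeparable K K₁ := Algebra.isSeparable_tower_bot_of_isSeparable K K₁ M
  have hV := H1Ram.dominates_comap (L := L) W hW
  have hU := H1Ram.dominates_comap (L := K₁) W hW
  haveI hdvV := H1Ram.isDVR_of_dominates (W.comap (algebraMap L M)) hV
  haveI hdvU := H1Ram.isDVR_of_dominates (W.comap (algebraMap K₁ M)) hU
  haveI hdvW := H1Ram.isDVR_of_dominates W hW
  letI : Algebra A (W.comap (algebraMap L M)) :=
    (RingHom.codRestrict ((algebraMap K L).comp (algebraMap A K)) (W.comap (algebraMap L M)) hV.1).toAlgebra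
  letI : Algebra A (W.comap (algebraMap K₁ M)) :=
    (RingHom.codRestrict ((algebraMap K K₁).comp (algebraMap A K)) (W.comap (algebraMap K₁ M)) hU.1).toAlgebra
  haveI := H1Ram.isLocalHom_of_dominates hV
  haveI := H1Ram.isLocalHom_of_dominates hU
  obtain ⟨hsep, he⟩ := hL _ hV
  obtain ⟨hpos, hle, -⟩ := H1Ram.pos_and_weaklyUnramified_iff (W.comap (algebraMap L M)) hV
  letI : Algebra A L := ((algebraMap K L).comp (algebraMap A K)).toAlgebra
  haveI : IsScalarTower A K L := IsScalarTower.of_algebraMap_eq fun _ => rfl
  haveI : IsScalarTower A (W.comap (algebraMap L M)) L := IsScalarTower.of_algebraMap_eq fun _ => rfl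
  haveI : IsFractionRing (W.comap (algebraMap L M)) L := inferInstance
  have hne : (Ideal.ramificationIdx' (maximalIdeal A) (maximalIdeal (W.comap (algebraMap L M))) : ResidueField A) ≠ 0 :=
    ((H1Ram.isTamelyRamified_iff (A := A) (K := K) (F := L)).1 hL _ hV).2
  have htame : CharZero (ResidueField A) ∨
      ∃ p : ℕ, p.Prime ∧ CharP (ResidueField A) p ∧
        ¬ p ∣ Ideal.ramificationIdx' (maximalIdeal A) (maximalIdeal (W.comap (algebraMap L M))) ∧
        Algebra.IsGeometricallyReduced (ResidueField A) (ResidueField (W.comap (algebraMap L M))) := by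
    obtain ⟨q, hq⟩ := CharP.exists (ResidueField A)
    rcases CharP.char_is_prime_or_zero (ResidueField A) q with hp | rfl
    · exact Or.inr ⟨q, hp, hq, he q hp hq,
        haveI := hsep; S1985.isGeometricallyReduced_of_isSeparable _ _⟩
    · exact Or.inl (CharP.charP_to_charZero _)
  have hinj : Function.Injective (algebraMap A (W.comap (algebraMap L M))) := fun x y h =>
    IsFractionRing.injective A K ((algebraMap K L).injective (congrArg Subtype.val h))
  -- the ramification index below
  have hdvd : Ideal.ramificationIdx' (maximalIdeal A) (maximalIdeal (W.comap (algebraMap L M))) ∣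
      Ideal.ramificationIdx' (maximalIdeal A) (maximalIdeal (W.comap (algebraMap K₁ M))) := by
    refine (hN _ hV).trans ?_
    have htU : t ∈ W.comap (algebraMap K₁ M) := by
      rw [← ValuationSubring.valuation_le_one_iff]
      by_contra hcon
      have h1 := (ValuationSubring.valuation_le_one_iff _ _).2 (hU.1 π)
      rw [RingHom.comp_apply, ← ht, map_pow] at h1
      exact absurd h1 (not_le.2 (one_lt_pow₀ (not_le.1 hcon) hN0.ne'))
    have hπU : algebraMap A (W.comap (algebraMap K₁ M)) π = (⟨t, htU⟩ : W.comap (algebraMap K₁ M)) ^ N :=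
      Subtype.ext ht.symm
    have hmax : (maximalIdeal A).map (algebraMap A (W.comap (algebraMap K₁ M))) =
        (Ideal.span {(⟨t, htU⟩ : W.comap (algebraMap K₁ M))}) ^ N := by
      rw [hπ, Ideal.map_span, Set.image_singleton, hπU, Ideal.span_singleton_pow]
    obtain ⟨σ, hσ⟩ := IsDiscreteValuationRing.exists_irreducible (W.comap (algebraMap K₁ M))
    have ht0 : (⟨t, htU⟩ : W.comap (algebraMap K₁ M)) ≠ 0 := fun h => by
      have h1 : t = 0 := congrArg Subtype.val h
      rw [h1, zero_pow hN0.ne', eq_comm, map_eq_zero] at ht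
      have h2 : π = 0 := IsFractionRing.injective A K (ht.trans (map_zero _).symm)
      rw [h2, Ideal.span_singleton_eq_bot.2 rfl] at hπ
      exact IsDiscreteValuationRing.not_a_field A hπ
    obtain ⟨b, u, hu⟩ := IsDiscreteValuationRing.eq_unit_mul_pow_irreducible ht0 hσ
    rw [hu, Ideal.span_singleton_mul_left_unit u.isUnit, ← Ideal.span_singleton_pow, ← hσ.maximalIdeal_eq,
      ← pow_mul] at hmax
    rw [H1Ram.ramificationIdx'_of_map_eq hmax]
    exact ⟨b, mul_comm _ _⟩
  have hdomB : EtRam.Dominates (W.comap (algebraMap L M))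
      ((algebraMap L M).comp (algebraMap (W.comap (algebraMap L M)) L)) W :=
    ⟨fun b => b.2, fun b hb => (H1Ram.comap_valuation_lt_one W (algebraMap L M) _).1
      (((W.comap (algebraMap L M)).valuation_lt_one_iff b).1 hb)⟩
  obtain ⟨hwu, hgr⟩ := H1Ram.abhyankar_core (A := A) (B := W.comap (algebraMap L M)) (K := K) (L := L) hinj htame
    hgen W hdomB hU.1 hdvd
  haveI : Module.Finite K₁ M := Module.Finite.of_restrictScalars_finite K K₁ M
  have hdomU : EtRam.Dominates (W.comap (algebraMap K₁ M))
      ((algebraMap K₁ M).comp (algebraMap (W.comap (algebraMap K₁ M)) K₁)) W :=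
    ⟨fun b => b.2, fun b hb => (H1Ram.comap_valuation_lt_one W (algebraMap K₁ M) _).1
      (((W.comap (algebraMap K₁ M)).valuation_lt_one_iff b).1 hb)⟩
  letI : Algebra (W.comap (algebraMap K₁ M)) W := (EtRam.inclOfComap W (algebraMap K₁ M)).toAlgebra
  haveI : IsLocalHom (algebraMap (W.comap (algebraMap K₁ M)) W) :=
    EtRam.isLocalHom_inclOfComap W (algebraMap K₁ M)
  haveI : Module.Finite (ResidueField (W.comap (algebraMap K₁ M))) (ResidueField W) :=
    @H1Ram.finite_residueField (W.comap (algebraMap K₁ M)) K₁ _ _ _ _ _ _ M _ _ _ W hdomU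
      (EtRam.isLocalHom_inclOfComap W (algebraMap K₁ M))
  refine ⟨hwu, ?_⟩
  have hal : (inferInstance : Algebra (ResidueField (W.comap (algebraMap K₁ M))) (ResidueField W)) =
      (ResidueField.map (EtRam.inclOfComap W (algebraMap K₁ M))).toAlgebra := by
    refine Algebra.algebra_ext _ _ fun x => ?_
    obtain ⟨x, rfl⟩ := residue_surjective x
    rfl
  rw [← hal] at hgr
  show @Algebra.IsSeparable (ResidueField (W.comap (algebraMap K₁ M))) (ResidueField W) _ _ _
  exact @H1Ram.isSeparable_of_geomReduced (ResidueField (W.comap (algebraMap K₁ M))) (ResidueField W) _ _ _ this hgr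

end Groth.Agent.RelDvr
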